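import Groth.Agent.Chev.AffPart
import Groth.Agent.Chev.BorelKernel
import Groth.Agent.Chev.BorelTheory
import Groth.Agent.SekK.Exact
import Groth.Agent.S8014
import Groth.Agent.S3279

/-!
# Properness of homogeneous spaces of not necessarily affine groups
-/

set_option autoImplicit false
set_option backward.isDefEq.respectTransparency false

universe u

open CategoryTheory CategoryTheory.Limits MonoidalCategory CartesianMonoidalCategory MonObj GrpObj AlgebraicGeometry

noncomputable section

namespace Groth.Agent.HomogProp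

section Whisker

variable {k : Type u} [Field k] {X X' Z : Over (Spec (CommRingCat.of k))}

/-- Base change of a morphism along a product. -/
theorem prop_whiskerRight (P : MorphismProperty Scheme.{u}) [P.IsStableUnderBaseChange] (f : X ⟶ X')
    (h : P f.left) (Z : Over (Spec (CommRingCat.of k))) : P (f ▷ Z).left :=
  P.of_isPullback (GrpField.SchImg.isPullback_whiskerRight f Z) h

theorem prop_whiskerLeft (P : MorphismProperty Scheme.{u}) [P.IsStableUnderBaseChange] (f : X ⟶ X')
    (h : P f.left) (Z : Over (Spec (CommRingCat.of k))) : P (Z ◁ f).left := by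
  haveI : P.RespectsIso := inferInstance
  have e : Z ◁ f = (β_ Z X).hom ≫ (f ▷ Z) ≫ (β_ X' Z).hom := by simp
  rw [e, Over.comp_left, Over.comp_left]
  rw [P.cancel_left_of_respectsIso, P.cancel_right_of_respectsIso]
  exact prop_whiskerRight P f h Z

/-- Products with a fixed object keep fibre squares. -/
theorem isPullback_whisker {W A B C : Over (Spec (CommRingCat.of k))} {p : W ⟶ A} {q : W ⟶ B} {f : A ⟶ C} {g : B ⟶ C}
    (sq : IsPullback p q f g) (Z : Over (Spec (CommRingCat.of k))) :
    IsPullback (p ▷ Z) (q ▷ Z) (f ▷ Z) (g ▷ Z) := by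
  refine ⟨⟨by rw [← comp_whiskerRight, ← comp_whiskerRight, sq.w]⟩, ⟨PullbackCone.IsLimit.mk _
    (fun s => lift (sq.lift (s.fst ≫ fst A Z) (s.snd ≫ fst B Z) ?_) (s.fst ≫ snd A Z)) (fun s => ?_) (fun s => ?_)
    (fun s m h1 h2 => ?_)⟩⟩
  · have := congrArg (· ≫ fst C Z) s.condition
    simpa using this
  · apply CartesianMonoidalCategory.hom_ext <;> simp
  · apply CartesianMonoidalCategory.hom_ext
    · simp
    · have := congrArg (· ≫ snd C Z) s.condition
      simp at this
      simp [this]
  · apply CartesianMonoidalCategory.hom_ext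
    · rw [lift_fst]
      refine sq.hom_ext ?_ ?_
      · rw [IsPullback.lift_fst, ← h1]; simp
      · rw [IsPullback.lift_snd, ← h2]; simp
    · rw [lift_snd, ← h1]; simp

/-- The image of a subset along one side of a fibre square. -/
theorem image_preimage_eq {W A B C : Scheme.{u}} {p : W ⟶ A} {q : W ⟶ B} {f : A ⟶ C} {g : B ⟶ C}
    (sq : IsPullback p q f g) (s : Set B) : p '' (q ⁻¹' s) = f ⁻¹' (g '' s) := by
  ext a
  constructor
  · rintro ⟨w, hw, rfl⟩
    exact ⟨q w, hw, by rw [← Scheme.Hom.comp_apply, ← Scheme.Hom.comp_apply, sq.w]⟩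
  · rintro ⟨b, hb, hab⟩
    obtain ⟨z, hz1, hz2⟩ := Scheme.Pullback.exists_preimage_pullback (f := f) (g := g) a b hab.symm
    refine ⟨sq.isoPullback.inv z, ?_, ?_⟩
    · show q (sq.isoPullback.inv z) ∈ s
      rw [← Scheme.Hom.comp_apply, sq.isoPullback_inv_snd, hz2]
      exact hb
    · rw [← Scheme.Hom.comp_apply, sq.isoPullback_inv_fst, hz1]

end Whisker

variable {k : Type u} [Field k]
  {G N A Y X : Over (Spec (CommRingCat.of k))} [GrpObj G] [GrpObj N] [GrpObj A]

/-- A homogeneous space is universally closed as soon as the orbit map of a normal subgroup with proper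
quotient factors through a proper scheme. -/
theorem universallyClosed_of_factor [LocallyOfFiniteType G.hom] [QuasiCompact G.hom]
    (i : N ⟶ G) [IsMonHom i] (α : G ⟶ A) [IsMonHom α] [Flat α.left] [Surjective α.left] [IsProper A.hom]
    (hker : AlgGrp.IsKernel i α)
    (π : N ⟶ Y) [Surjective π.left] [IsProper Y.hom]
    (a : AlgGrp.Action G X) (o : 𝟙_ (Over (Spec (CommRingCat.of k))) ⟶ X) [Surjective (a.orbitMap o).left]
    (v : Y ⟶ X) (hv : π ≫ v = i ≫ a.orbitMap o) : UniversallyClosed X.hom := by
  haveI : QuasiCompact α.left := by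
    haveI : QuasiCompact (α.left ≫ A.hom) := by rw [Over.w]; infer_instance
    exact QuasiCompact.of_comp _ A.hom
  let m : G ⊗ N ⟶ G := (G ◁ i) ≫ μ[G]
  let φ : G ⟶ X := a.orbitMap o
  let ψ : G ⊗ Y ⟶ X := (G ◁ v) ≫ a.act
  have hψ : (G ◁ π) ≫ ψ = m ≫ φ := by
    have h1 : (G ◁ π) ≫ ψ = lift (fst G N) (snd G N ≫ i ≫ φ) ≫ a.act := by
      rw [← MonoidalCategory.whiskerLeft_comp_assoc, hv]
      congr 1
    have h2 : m = fst G N * (snd G N ≫ i) := by
      rw [Hom.mul_def]
      congr 1
    have e2 : ∀ g : G ⊗ N ⟶ G, g ≫ φ = lift g (toUnit _ ≫ o) ≫ a.act := fun g => GrpAct.orbit_comp a o g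
    rw [h1, h2, e2, GrpAct.mul_smul, ← Category.assoc (snd G N), e2]
  have hiα : i ≫ α = 1 := by rw [hker.w, Hom.one_def]
  have sqA := SekK.isPullback_of_isKernel i α hker hiα
  suffices hclosed : ∀ E : Over (Spec (CommRingCat.of k)), IsClosedMap (snd X E).left by
    refine ⟨fun {P' T'} i₁ i₂ π' hc => ?_⟩
    let E : Over (Spec (CommRingCat.of k)) := Over.mk i₂
    have hsq : IsPullback (fst X E).left (snd X E).left X.hom E.hom := IsPullback.of_hasPullback X.hom E.hom
    have he : π' = (hc.flip.isoIsPullback _ _ hsq).hom ≫ (snd X E).left := (IsPullback.isoIsPullback_hom_snd _ _ hc.flip hsq).symm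
    show IsClosedMap π'
    rw [he, Scheme.Hom.comp_base, TopCat.coe_comp]
    exact (hclosed E).comp (hc.flip.isoIsPullback _ _ hsq).hom.homeomorph.isClosedMap
  intro E C hC
  set C' := (φ ▷ E).left ⁻¹' C with hC'
  haveI : Surjective (φ ▷ E).left := prop_whiskerRight @Surjective φ inferInstance E
  have e1 : (snd X E).left '' C = (snd G E).left '' C' := by
    conv_lhs => rw [← Set.image_preimage_eq C (φ ▷ E).left.surjective, ← Set.image_comp]
    refine Set.image_congr' fun x => ?_
    rw [Function.comp_apply, ← Scheme.Hom.comp_apply, ← Over.comp_left, whiskerRight_snd]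
  haveI : Flat (α ▷ E).left := prop_whiskerRight @Flat α inferInstance E
  haveI : Surjective (α ▷ E).left := prop_whiskerRight @Surjective α inferInstance E
  haveI : QuasiCompact (α ▷ E).left := prop_whiskerRight @QuasiCompact α inferInstance E
  have sqE : IsPullback (fst G N ▷ E).left (m ▷ E).left (α ▷ E).left (α ▷ E).left :=
    (isPullback_whisker sqA E).map (Over.forget _)
  have hS : IsClosed ((α ▷ E).left ⁻¹' ((α ▷ E).left '' C')) := by
    rw [← image_preimage_eq sqE C']
    haveI : Surjective ((G ◁ π) ▷ E).left :=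
      prop_whiskerRight @Surjective _ (prop_whiskerLeft @Surjective π inferInstance G) E
    haveI : UniversallyClosed (fst G Y).left := by
      haveI : IsProper (Limits.pullback.fst G.hom Y.hom) := MorphismProperty.pullback_fst _ _ inferInstance
      exact inferInstanceAs (UniversallyClosed (Limits.pullback.fst G.hom Y.hom))
    haveI : UniversallyClosed (fst G Y ▷ E).left := prop_whiskerRight @UniversallyClosed _ inferInstance E
    have hm : (m ▷ E).left ⁻¹' C' = ((G ◁ π) ▷ E).left ⁻¹' ((ψ ▷ E).left ⁻¹' C) := by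
      rw [hC', ← Set.preimage_comp, ← Set.preimage_comp]
      congr 1
      funext x
      rw [Function.comp_apply, Function.comp_apply, ← Scheme.Hom.comp_apply, ← Scheme.Hom.comp_apply,
        ← Over.comp_left, ← Over.comp_left, ← comp_whiskerRight, ← comp_whiskerRight, hψ]
    rw [hm]
    have hf : (fst G N ▷ E).left = ((G ◁ π) ▷ E).left ≫ (fst G Y ▷ E).left := by
      rw [← Over.comp_left, ← comp_whiskerRight, whiskerLeft_fst]
    rw [hf, Scheme.Hom.comp_base, TopCat.coe_comp, Set.image_comp,
      Set.image_preimage_eq _ ((G ◁ π) ▷ E).left.surjective]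
    exact (fst G Y ▷ E).left.isClosedMap _ (hC.preimage (ψ ▷ E).left.continuous)
  rw [(Flat.isQuotientMap_of_surjective (α ▷ E).left).isClosed_preimage] at hS
  have e2 : (snd G E).left '' C' = (snd A E).left '' ((α ▷ E).left '' C') := by
    rw [← Set.image_comp]
    refine Set.image_congr' fun x => ?_
    rw [Function.comp_apply, ← Scheme.Hom.comp_apply, ← Over.comp_left, whiskerRight_snd]
  haveI : UniversallyClosed (snd A E).left := by
    haveI : IsProper (Limits.pullback.snd A.hom E.hom) := MorphismProperty.pullback_snd _ _ inferInstance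
    exact inferInstanceAs (UniversallyClosed (Limits.pullback.snd A.hom E.hom))
  rw [e1, e2]
  exact (snd A E).left.isClosedMap _ hS

end Groth.Agent.HomogProp
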